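import Cfsg.Agent.H826.Bs.Perp
import Cfsg.Agent.LieClassical.OrthFinite

/-!
# S5733: the type of a quadratic form over a finite field, by Gauss sums

`gs Q c = ∑ v, ψ (c * Q v)`; it is multiplicative in orthogonal sums, `q ^ n` for the forms of plus type in dimension `2 n`
and `- q ^ n` for the others.
-/

set_option autoImplicit false

namespace Cfsg.Agent.H826.Bs

open Cfsg.Agent.H847.Bs Module QuadraticMap Cfsg.Agent.LieClassical.OrthCore
open scoped ComplexConjugate

section

variable {F : Type*} [Field F] [Finite F]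

variable (F) in
/-- a nontrivial additive character -/
noncomputable def psi : AddChar F ℂ := AddChar.FiniteField.primitiveChar_to_Complex F

variable (F) in
theorem exists_psi_ne_one : ∃ a : F, psi F a ≠ 1 := by
  have h := AddChar.FiniteField.primitiveChar_to_Complex_isPrimitive (F := F)
  have h1 := h (one_ne_zero (α := F))
  rw [AddChar.mulShift_one] at h1
  exact AddChar.ne_one_iff.mp h1

variable {V : Type*} [AddCommGroup V] [Module F V] [FiniteDimensional F V]

omit [FiniteDimensional F V] in
theorem sum_psi_lin [Fintype V] (ℓ : V →ₗ[F] F) (h : ℓ ≠ 0) : ∑ v, psi F (ℓ v) = 0 := by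
  have h1 : (psi F).compAddMonoidHom ℓ.toAddMonoidHom ≠ 1 := by
    rw [AddChar.ne_one_iff]
    obtain ⟨a, ha⟩ := exists_psi_ne_one F
    obtain ⟨v, hv⟩ : ∃ v, ℓ v ≠ 0 := by
      by_contra hcon
      push Not at hcon
      exact h (LinearMap.ext hcon)
    refine ⟨(a / ℓ v) • v, ?_⟩
    show psi F (ℓ ((a / ℓ v) • v)) ≠ 1
    rw [map_smul, smul_eq_mul, div_mul_cancel₀ _ hv]
    exact ha
  exact AddChar.sum_eq_zero_of_ne_one h1

theorem sum_psi_const [Fintype F] (a : F) (h : a ≠ 0) : ∑ c : F, psi F (c * a) = 0 := by
  have : (LinearMap.toSpanSingleton F F a) ≠ 0 := by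
    intro h0
    have := LinearMap.congr_fun h0 1
    simp at this
    exact h this
  exact sum_psi_lin (LinearMap.toSpanSingleton F F a) this

/-- the Gauss sum -/
noncomputable def gs (Q : QuadraticForm F V) (c : F) : ℂ :=
  letI := Classical.decEq V
  letI : Finite V := Module.finite_of_finite F
  letI := Fintype.ofFinite V
  ∑ v : V, psi F (c * Q v)

theorem gs_eq [Fintype V] (Q : QuadraticForm F V) (c : F) : gs Q c = ∑ v : V, psi F (c * Q v) := by
  unfold gs
  refine Finset.sum_congr ?_ fun _ _ => rfl
  ext; simp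

theorem gs_norm (Q : QuadraticForm F V) (hQ : Nondeg Q) {c : F} (hc : c ≠ 0) : Complex.normSq (gs Q c) = Nat.card V := by
  classical
  have : Finite V := Module.finite_of_finite F
  have := Fintype.ofFinite V
  have h1 : (Complex.normSq (gs Q c) : ℂ) = (Nat.card V : ℂ) := by
    rw [← Complex.mul_conj, gs_eq, map_sum, Finset.sum_mul_sum, Finset.sum_comm]
    have h2 : ∀ w : V, ∑ v : V, psi F (c * Q v) * conj (psi F (c * Q w)) =
        ∑ u : V, psi F (c * Q u) * psi F (c * polar Q u w) := by
      intro w
      rw [← Equiv.sum_comp (Equiv.addRight w)]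
      refine Finset.sum_congr rfl fun u _ => ?_
      rw [Equiv.coe_addRight, ← AddChar.map_neg_eq_conj, ← AddChar.map_add_eq_mul, ← AddChar.map_add_eq_mul, Q_add]
      congr 1
      ring
    rw [Finset.sum_congr rfl fun w _ => h2 w, Finset.sum_comm]
    have h3 : ∀ u : V, ∑ w : V, psi F (c * Q u) * psi F (c * polar Q u w) = if u = 0 then (Nat.card V : ℂ) else 0 := by
      intro u
      rw [← Finset.mul_sum]
      split_ifs with hu
      · subst hu
        simp [QuadraticMap.map_zero, polar_zero_left]
      · obtain ⟨y, hy⟩ := hQ.exists_polar_ne hu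
        have : (c • (polarBilin Q u) : V →ₗ[F] F) ≠ 0 := by
          intro h0
          have := LinearMap.congr_fun h0 y
          simp only [LinearMap.smul_apply, polarBilin_apply_apply, smul_eq_mul, LinearMap.zero_apply, mul_eq_zero] at this
          rcases this with h | h
          · exact hc h
          · exact hy h
        have h4 := sum_psi_lin _ this
        simp only [LinearMap.smul_apply, polarBilin_apply_apply, smul_eq_mul] at h4
        rw [h4, mul_zero]
    rw [Finset.sum_congr rfl fun u _ => h3 u]
    simp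
  exact_mod_cast h1

theorem gs_dec (Q : QuadraticForm F V) {D U : Submodule F V} (h : (frmQ Q).Dec D U) (c : F) :
    gs Q c = gs (Q.comp D.subtype) c * gs (Q.comp U.subtype) c := by
  classical
  have : Finite V := Module.finite_of_finite F
  have := Fintype.ofFinite V
  have := Fintype.ofFinite D
  have := Fintype.ofFinite U
  rw [gs_eq, gs_eq, gs_eq, Finset.sum_mul_sum, ← Fintype.sum_prod_type',
    ← Equiv.sum_comp (Submodule.prodEquivOfIsCompl D U h.compl).toEquiv]
  refine Finset.sum_congr rfl fun x _ => ?_
  have h1 : (Submodule.prodEquivOfIsCompl D U h.compl).toEquiv x = (x.1 : V) + (x.2 : V) := rfl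
  rw [h1, Q_add, show polar Q (x.1 : V) (x.2 : V) = 0 from h.orth _ x.1.2 _ x.2.2, add_zero, mul_add,
    AddChar.map_add_eq_mul]
  rfl

omit [Finite F] [FiniteDimensional F V] in
theorem nondeg_iff (Q : QuadraticForm F V) : (frmQ Q).Nd ↔ Nondeg Q := Iff.rfl

omit [Finite F] in
theorem card_eq_pow : Nat.card V = Nat.card F ^ finrank F V := Module.natCard_eq_pow_finrank

omit [Finite F] in
/-- the dimension of the orthogonal complement of any subspace -/
theorem finrank_perp (Q : QuadraticForm F V) (hQ : Nondeg Q) (A : Submodule F V) :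
    finrank F A + finrank F (prp (frmQ Q) A) = finrank F V := by
  have hker : (polarBilin Q).ker = ⊥ := by
    rw [LinearMap.ker_eq_bot']
    intro x hx
    exact hQ x fun y => LinearMap.congr_fun hx y
  have h := LinearMap.BilinForm.finrank_add_finrank_orthogonal' (B := polarBilin Q) A
  have h2 : LinearMap.BilinForm.orthogonal (polarBilin Q) A = prp (frmQ Q) A := by
    ext y
    rw [LinearMap.BilinForm.mem_orthogonal_iff, mem_prp']
    rfl
  rw [h2, hker, inf_bot_eq, finrank_bot, add_zero] at h
  exact h

theorem gs_plus (Q : QuadraticForm F V) (hQ : Nondeg Q) (A : Submodule F V) (hA : (frmQ Q).TI A)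
    (hd : 2 * finrank F A = finrank F V) {c : F} (hc : c ≠ 0) : gs Q c = (Nat.card F : ℂ) ^ finrank F A := by
  classical
  have : Finite V := Module.finite_of_finite F
  have := Fintype.ofFinite V
  have := Fintype.ofFinite A
  have hAperp : prp (frmQ Q) A = A := by
    have hle : A ≤ prp (frmQ Q) A := fun x hx y hy => hA.1 x hx y hy
    refine (Submodule.eq_of_le_of_finrank_eq hle ?_).symm
    have := finrank_perp Q hQ A
    omega
  have h1 : (Fintype.card A : ℂ) * gs Q c = ∑ v : V, psi F (c * Q v) * ∑ a : A, psi F (c * polar Q v a) := by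
    have h2 : ∀ a : A, gs Q c = ∑ v : V, psi F (c * Q v) * psi F (c * polar Q v a) := by
      intro a
      rw [gs_eq, ← Equiv.sum_comp (Equiv.addRight (a : V))]
      refine Finset.sum_congr rfl fun v _ => ?_
      rw [Equiv.coe_addRight, ← AddChar.map_add_eq_mul, Q_add, show Q (a : V) = 0 from hA.2 a a.2]
      congr 1
      ring
    have h3 : ∑ a : A, gs Q c = (Fintype.card A : ℂ) * gs Q c := by
      rw [Finset.sum_const, nsmul_eq_mul]
      rfl
    rw [← h3, Finset.sum_congr rfl fun a _ => h2 a, Finset.sum_comm]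
    exact Finset.sum_congr rfl fun v _ => (Finset.mul_sum _ _ _).symm
  have h4 : ∀ v : V, psi F (c * Q v) * ∑ a : A, psi F (c * polar Q v a) =
      if v ∈ A then (Fintype.card A : ℂ) else 0 := by
    intro v
    split_ifs with hv
    · rw [show Q v = 0 from hA.2 v hv, mul_zero, AddChar.map_zero_eq_one, one_mul,
        Finset.sum_congr rfl fun a _ => by rw [show polar Q v (a : V) = 0 from hA.1 v hv a a.2, mul_zero,
          AddChar.map_zero_eq_one]]
      simp
    · have h5 : ∃ a ∈ A, polar Q v a ≠ 0 := by
        by_contra hcon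
        push Not at hcon
        apply hv
        rw [← hAperp]
        exact hcon
      obtain ⟨a, ha, hva⟩ := h5
      have : ((c • (polarBilin Q v)) ∘ₗ A.subtype : A →ₗ[F] F) ≠ 0 := by
        intro h0
        have := LinearMap.congr_fun h0 ⟨a, ha⟩
        simp only [LinearMap.comp_apply, Submodule.subtype_apply, LinearMap.smul_apply, polarBilin_apply_apply,
          smul_eq_mul, LinearMap.zero_apply, mul_eq_zero] at this
        rcases this with h | h
        · exact hc h
        · exact hva h
      have h6 := sum_psi_lin _ this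
      simp only [LinearMap.comp_apply, Submodule.subtype_apply, LinearMap.smul_apply, polarBilin_apply_apply,
          smul_eq_mul] at h6
      rw [h6, mul_zero]
  rw [Finset.sum_congr rfl fun v _ => h4 v, ← Finset.sum_filter, Finset.sum_const, nsmul_eq_mul] at h1
  have h7 : (Finset.univ.filter fun v : V => v ∈ A).card = Fintype.card A := by
    rw [Fintype.card_subtype]
  rw [h7] at h1
  have h8 : (Fintype.card A : ℂ) ≠ 0 := by exact_mod_cast Fintype.card_ne_zero
  rw [mul_left_cancel₀ h8 h1, ← Nat.card_eq_fintype_card, card_eq_pow (F := F)]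
  push_cast
  rfl

/-- anisotropic planes -/
theorem gs_aniso (Q : QuadraticForm F V) (hQ : Nondeg Q) (hd : finrank F V = 2) (ha : ∀ v, Q v = 0 → v = 0) {c : F}
    (hc : c ≠ 0) : gs Q c = -(Nat.card F : ℂ) := by
  classical
  have : Finite V := Module.finite_of_finite F
  have := Fintype.ofFinite V
  have := Fintype.ofFinite F
  set q : ℝ := (Nat.card F : ℝ) with hq
  have hq0 : 0 < q := by
    have : 0 < Nat.card F := Nat.card_pos
    rw [hq]
    exact_mod_cast this
  have hn : ∀ b : F, b ≠ 0 → Complex.normSq (gs Q b) = q ^ 2 := by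
    intro b hb
    rw [gs_norm Q hQ hb, card_eq_pow (F := F), hd]
    push_cast
    rfl
  have hre : ∀ b : F, b ≠ 0 → 0 ≤ (gs Q b).re + q := by
    intro b hb
    have h1 := hn b hb
    rw [Complex.normSq_apply] at h1
    nlinarith [mul_self_nonneg (gs Q b).im, mul_self_nonneg ((gs Q b).re + q)]
  have hsum : ∑ b : F, gs Q b = (q : ℂ) := by
    have h1 : ∑ b : F, gs Q b = ∑ v : V, ∑ b : F, psi F (b * Q v) := by
      rw [Finset.sum_comm]
      exact Finset.sum_congr rfl fun b _ => gs_eq Q b
    rw [h1]
    have h2 : ∀ v : V, ∑ b : F, psi F (b * Q v) = if v = 0 then (q : ℂ) else 0 := by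
      intro v
      split_ifs with hv
      · subst hv
        simp [QuadraticMap.map_zero, hq]
      · exact sum_psi_const _ fun h => hv (ha v h)
    rw [Finset.sum_congr rfl fun v _ => h2 v]
    simp
  have h0 : gs Q 0 = (q : ℂ) ^ 2 := by
    rw [gs_eq]
    simp only [zero_mul, AddChar.map_zero_eq_one, Finset.sum_const, nsmul_eq_mul, mul_one]
    have : (Finset.univ : Finset V).card = Nat.card V := by rw [Nat.card_eq_fintype_card]; rfl
    rw [this, card_eq_pow (F := F), hd]
    push_cast
    rfl
  have hsum2 : ∑ b ∈ Finset.univ.erase (0 : F), ((gs Q b).re + q) = 0 := by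
    have h1 : ∑ b ∈ Finset.univ.erase (0 : F), gs Q b = (q : ℂ) - q ^ 2 := by
      rw [Finset.sum_erase_eq_sub (Finset.mem_univ _), hsum, h0]
    have h2 := congrArg Complex.re h1
    rw [Complex.re_sum] at h2
    rw [Finset.sum_add_distrib, h2, Finset.sum_const, Finset.card_erase_of_mem (Finset.mem_univ _), nsmul_eq_mul]
    have h3 : ((Finset.univ : Finset F).card - 1 : ℕ) = q - 1 := by
      have : (Finset.univ : Finset F).card = Nat.card F := by rw [Nat.card_eq_fintype_card]; rfl
      rw [this, Nat.cast_sub Nat.card_pos]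
      push_cast
      rfl
    rw [h3]
    have h4 : ((q : ℂ) - (q : ℂ) ^ 2).re = q - q ^ 2 := by
      rw [Complex.sub_re, ← Complex.ofReal_pow, Complex.ofReal_re, Complex.ofReal_re]
    rw [h4]
    ring
  have hall := (Finset.sum_eq_zero_iff_of_nonneg (fun b hb => hre b (Finset.ne_of_mem_erase hb))).mp hsum2 c
    (Finset.mem_erase.mpr ⟨hc, Finset.mem_univ _⟩)
  have hre' : (gs Q c).re = -q := by linarith
  have him : (gs Q c).im = 0 := by
    have h1 := hn c hc
    rw [Complex.normSq_apply, hre'] at h1
    have : (gs Q c).im * (gs Q c).im = 0 := by nlinarith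
    exact mul_self_eq_zero.mp this
  refine Complex.ext ?_ ?_
  · rw [hre']
    simp [hq]
  · rw [him]
    simp

end

end Cfsg.Agent.H826.Bs
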