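import Cfsg.Agent.H826.Bs.Comb
import Cfsg.Agent.H826.Bs.Perp

/-!
# S5733: counting the large block elements, generalities

`RecM`, `RecP`, `RecD` : the statements of BS03; `gg Φ K d = |SS K d| / |Iso|`.
-/

set_option autoImplicit false

namespace Cfsg.Agent.H826.Bs

open Cfsg.Agent.H847.Bs Module

section

variable {F V : Type*} [Field F] [AddCommGroup V] [Module F V]

/-- the recursion step for blocks of type minus -/
def RecM (Φ : Frm F V) : Prop :=
  ∀ (D U : Submodule F V) (h : Φ.Dec D U) (K d : ℕ) (X : Set (D ≃ₗ[F] D)) (Y : Set (U ≃ₗ[F] U)),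
    finrank F D = d → K < d → X ⊆ (Φ.on D).Bm → Y ⊆ (Φ.on U).SS K (d - 1) →
    Nat.card Φ.Iso * Nat.card X * Nat.card Y ≤
      Nat.card (Φ.on D).Iso * Nat.card (Φ.on U).Iso * Nat.card (cset Φ.Iso h.compl X Y) ∧
    cset Φ.Iso h.compl X Y ⊆ Φ.SS K d ∧ Disjoint (cset Φ.Iso h.compl X Y) (Φ.SS K (d - 1))

/-- the recursion step for blocks of type plus -/
def RecP (Φ : Frm F V) : Prop :=
  ∀ (D U : Submodule F V) (h : Φ.Dec D U) (K d : ℕ) (X : Set (D ≃ₗ[F] D)) (Y : Set (U ≃ₗ[F] U)),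
    finrank F D = d → 2 * K < d → X ⊆ (Φ.on D).Bp → Y ⊆ (Φ.on U).SS K (d - 1) →
    Nat.card Φ.Iso * Nat.card X * Nat.card Y ≤
      Nat.card (Φ.on D).Iso * Nat.card (Φ.on U).Iso * Nat.card (cset Φ.Iso h.compl X Y) ∧
    cset Φ.Iso h.compl X Y ⊆ Φ.SS K d ∧ Disjoint (cset Φ.Iso h.compl X Y) (Φ.SS K (d - 1))

/-- the elements of the two recursion steps are different -/
def RecD (Φ : Frm F V) : Prop :=
  ∀ (D U D' U' : Submodule F V) (h : Φ.Dec D U) (h' : Φ.Dec D' U') (K d : ℕ) (X : Set (D ≃ₗ[F] D)) (Y : Set (U ≃ₗ[F] U))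
    (X' : Set (D' ≃ₗ[F] D')) (Y' : Set (U' ≃ₗ[F] U')),
    finrank F D = d → finrank F D' = d → 2 * K < d → X ⊆ (Φ.on D).Bm → Y ⊆ (Φ.on U).SS K (d - 1) →
    X' ⊆ (Φ.on D').Bp → Y' ⊆ (Φ.on U').SS K (d - 1) →
    Disjoint (cset Φ.Iso h.compl X Y) (cset Φ.Iso h'.compl X' Y')

theorem SS_mono (Φ : Frm F V) (K : ℕ) {d d' : ℕ} (h : d ≤ d') : Φ.SS K d ⊆ Φ.SS K d' := by
  rintro x ⟨h1, h2, h3⟩
  exact ⟨h1, h2, fun X hX => ⟨(h3 X hX).1.trans h, fun hd => (h3 X hX).2 (by omega)⟩⟩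

theorem SS_sub_Iso (Φ : Frm F V) (K d : ℕ) : Φ.SS K d ⊆ Φ.Iso := fun _ h => h.1

theorem SS_of_finrank_zero [FiniteDimensional F V] (Φ : Frm F V) (K d : ℕ) (h : finrank F V = 0) :
    Φ.SS K d = Φ.Iso := by
  have hs : Subsingleton V := finrank_zero_iff.mp h
  refine Set.Subset.antisymm (SS_sub_Iso Φ K d) fun x hx => ⟨hx, fun Y _ hY => ?_, fun X hX => ?_⟩
  · exact (hY (Subsingleton.elim _ _)).elim
  · exact (hX.ne_bot (Subsingleton.elim _ _)).elim

/-- the proportion of large block elements -/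
noncomputable def gg (Φ : Frm F V) (K d : ℕ) : ℝ := (Nat.card ↥(Φ.SS K d) : ℝ) / Nat.card Φ.Iso

theorem finite_end [Finite F] [FiniteDimensional F V] : Finite (V ≃ₗ[F] V) := by
  have : Finite V := Module.finite_of_finite F
  exact Finite.of_injective (fun g : V ≃ₗ[F] V => (g : V → V)) DFunLike.coe_injective

theorem card_Iso_pos [Finite F] [FiniteDimensional F V] (Φ : Frm F V) : 0 < Nat.card Φ.Iso := by
  have := finite_end (F := F) (V := V)
  exact Nat.card_pos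

theorem card_le_of_sub [Finite F] [FiniteDimensional F V] {s t : Set (V ≃ₗ[F] V)} (h : s ⊆ t) :
    Nat.card s ≤ Nat.card t := by
  have := finite_end (F := F) (V := V)
  exact Nat.card_mono (Set.toFinite t) h

theorem card_add_le_of_disj [Finite F] [FiniteDimensional F V] {s t u : Set (V ≃ₗ[F] V)} (hs : s ⊆ u) (ht : t ⊆ u)
    (h : Disjoint s t) : Nat.card s + Nat.card t ≤ Nat.card u := by
  have := finite_end (F := F) (V := V)
  have h1 := card_le_of_sub (Set.union_subset hs ht)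
  rw [Nat.card_coe_set_eq, Set.ncard_union_eq h (Set.toFinite s) (Set.toFinite t), Nat.card_coe_set_eq] at h1
  rw [Nat.card_coe_set_eq, Nat.card_coe_set_eq, Nat.card_coe_set_eq]
  exact h1

theorem gg_nonneg (Φ : Frm F V) (K d : ℕ) : 0 ≤ gg Φ K d := by unfold gg; positivity

theorem gg_le_one [Finite F] [FiniteDimensional F V] (Φ : Frm F V) (K d : ℕ) : gg Φ K d ≤ 1 := by
  unfold gg
  refine div_le_one_of_le₀ ?_ (Nat.cast_nonneg _)
  exact_mod_cast card_le_of_sub (SS_sub_Iso Φ K d)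

theorem gg_mono [Finite F] [FiniteDimensional F V] (Φ : Frm F V) (K : ℕ) {d d' : ℕ} (h : d ≤ d') :
    gg Φ K d ≤ gg Φ K d' := by
  unfold gg
  refine div_le_div_of_nonneg_right ?_ (Nat.cast_nonneg _)
  exact_mod_cast card_le_of_sub (SS_mono Φ K h)

theorem gg_zero [Finite F] [FiniteDimensional F V] (Φ : Frm F V) (K d : ℕ) (h : finrank F V = 0) : 1 ≤ gg Φ K d := by
  unfold gg
  rw [SS_of_finrank_zero Φ K d h]
  refine le_of_eq (div_self ?_).symm
  exact_mod_cast (card_Iso_pos Φ).ne'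

/-- the numerical step -/
theorem num_step {I iD iU x y c : ℕ} {α : ℝ} (hI : 0 < I) (hD : 0 < iD) (hU : 0 < iU)
    (h : I * x * y ≤ iD * iU * c) (hx : α * iD ≤ x) : α * ((y : ℝ) / iU) ≤ (c : ℝ) / I := by
  have hI' : (0 : ℝ) < I := by exact_mod_cast hI
  have hD' : (0 : ℝ) < iD := by exact_mod_cast hD
  have hU' : (0 : ℝ) < iU := by exact_mod_cast hU
  have h' : (I : ℝ) * x * y ≤ iD * iU * c := by exact_mod_cast h
  rw [← mul_div_assoc, div_le_div_iff₀ hU' hI']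
  have h1 : α * iD * (y * I) ≤ x * (y * I) := mul_le_mul_of_nonneg_right hx (mul_nonneg (Nat.cast_nonneg _) hI'.le)
  have h2 : (iD : ℝ) * (α * y * I) ≤ iD * (c * iU) := by nlinarith
  exact le_of_mul_le_mul_left h2 hD'

end

end Cfsg.Agent.H826.Bs
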