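import Cfsg.Agent.H826.Bs.Gauss

/-!
# S5733: the two types of nondegenerate quadratic forms in even dimension over finite fields

* `gs_of_plus`, `gs_of_not_plus` : the Gauss sum is `q ^ n` resp. `- q ^ n`;
* `exists_plus_sub`, `exists_minus_sub` : nondegenerate subspaces of both types;
* `type_mul_plus`, `type_mul_minus` : types of orthogonal sums.
-/

set_option autoImplicit false

namespace Cfsg.Agent.H826.Bs

open Cfsg.Agent.H847.Bs Module QuadraticMap Cfsg.Agent.LieClassical.OrthCore

section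

variable {F V : Type*} [Field F] [AddCommGroup V] [Module F V]

theorem frm_ext {Φ Ψ : Frm F V} (h1 : Φ.B = Ψ.B) (h2 : Φ.q = Ψ.q) (h3 : Φ.s = Ψ.s) : Φ = Ψ := by
  cases Φ; cases Ψ
  simp only at h1 h2 h3
  subst h1; subst h2; subst h3
  rfl

theorem polar_comp_sub (Q : QuadraticForm F V) (D : Submodule F V) (x y : D) :
    polar (Q.comp D.subtype) x y = polar Q x y := rfl

theorem frmQ_comp (Q : QuadraticForm F V) (D : Submodule F V) : frmQ (Q.comp D.subtype) = (frmQ Q).on D := rfl

theorem nd_comp_iff {Q : QuadraticForm F V} {D : Submodule F V} : Nondeg (Q.comp D.subtype) ↔ (frmQ Q).NdOn D := by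
  rw [← nd_on_iff, ← frmQ_comp]
  rfl

/-- `D` contains a totally singular subspace of half dimension -/
theorem plusT_comp_iff [FiniteDimensional F V] {Q : QuadraticForm F V} {D : Submodule F V} :
    PlusT (Q.comp D.subtype) ↔ ∃ A ≤ D, (frmQ Q).TI A ∧ 2 * finrank F A = finrank F D := by
  constructor
  · rintro ⟨A, hA, hd⟩
    refine ⟨A.map D.subtype, Submodule.map_subtype_le D A, ⟨?_, ?_⟩, ?_⟩
    · rintro _ ⟨x, hx, rfl⟩ _ ⟨y, hy, rfl⟩
      exact hA.1 x hx y hy
    · rintro _ ⟨x, hx, rfl⟩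
      exact hA.2 x hx
    · rw [Submodule.finrank_map_subtype_eq]
      exact hd
  · rintro ⟨A, hAD, hA, hd⟩
    refine ⟨A.comap D.subtype, ⟨fun x hx y hy => hA.1 x hx y hy, fun x hx => hA.2 x hx⟩, ?_⟩
    rw [← hd]
    congr 1
    have h1 := Submodule.finrank_map_subtype_eq D (A.comap D.subtype)
    rw [Submodule.map_comap_subtype, inf_eq_right.mpr hAD] at h1
    exact h1.symm

theorem ti_sup {Q : QuadraticForm F V} {A B : Submodule F V} (hA : (frmQ Q).TI A) (hB : (frmQ Q).TI B)
    (h : ∀ x ∈ A, ∀ y ∈ B, polar Q x y = 0) : (frmQ Q).TI (A ⊔ B) := by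
  refine ⟨?_, ?_⟩
  · intro x hx y hy
    obtain ⟨a, ha, b, hb, rfl⟩ := Submodule.mem_sup.mp hx
    obtain ⟨a', ha', b', hb', rfl⟩ := Submodule.mem_sup.mp hy
    show polar Q (a + b) (a' + b') = 0
    rw [polar_add_left, polar_add_right, polar_add_right, show polar Q a a' = 0 from hA.1 a ha a' ha', h a ha b' hb',
      polar_comm _ b a', h a' ha' b hb, show polar Q b b' = 0 from hB.1 b hb b' hb']
    simp
  · intro x hx
    obtain ⟨a, ha, b, hb, rfl⟩ := Submodule.mem_sup.mp hx
    show Q (a + b) = 0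
    rw [Q_add, show Q a = 0 from hA.2 a ha, show Q b = 0 from hB.2 b hb, h a ha b hb]
    simp

theorem ti_span_singleton {Q : QuadraticForm F V} {x : V} (hx : Q x = 0) : (frmQ Q).TI (Submodule.span F {x}) := by
  refine ⟨?_, ?_⟩
  · intro a ha b hb
    obtain ⟨a, rfl⟩ := Submodule.mem_span_singleton.mp ha
    obtain ⟨b, rfl⟩ := Submodule.mem_span_singleton.mp hb
    show polar Q (a • x) (b • x) = 0
    rw [polar_smul_left, polar_smul_right, polar_self_of_sing hx]
    simp
  · intro a ha
    obtain ⟨a, rfl⟩ := Submodule.mem_span_singleton.mp ha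
    show Q (a • x) = 0
    rw [QuadraticMap.map_smul, hx]
    simp

theorem ti_bot (Q : QuadraticForm F V) : (frmQ Q).TI (⊥ : Submodule F V) := by
  refine ⟨fun x hx y _ => ?_, fun x hx => ?_⟩
  · rw [(Submodule.mem_bot F).mp hx]
    exact B_zero_left _ y
  · rw [(Submodule.mem_bot F).mp hx]
    exact QuadraticMap.map_zero Q

/-- a plane spanned by `x`, `y` with nonzero discriminant -/
theorem plane_nd [FiniteDimensional F V] {Q : QuadraticForm F V} {x y : V}
    (h : 4 * Q x * Q y - polar Q x y ^ 2 ≠ 0) :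
    (frmQ Q).NdOn (Submodule.span F ({x, y} : Set V)) ∧ finrank F (Submodule.span F ({x, y} : Set V)) = 2 := by
  have hkey : ∀ a b : F, polar Q (a • x + b • y) x = 0 → polar Q (a • x + b • y) y = 0 → a = 0 ∧ b = 0 := by
    intro a b h1 h2
    rw [polar_add_left, polar_smul_left, polar_smul_left, smul_eq_mul, smul_eq_mul, polar_self', polar_comm _ y x] at h1
    rw [polar_add_left, polar_smul_left, polar_smul_left, smul_eq_mul, smul_eq_mul, polar_self'] at h2
    constructor
    · have : a * (4 * Q x * Q y - polar Q x y ^ 2) = 0 := by linear_combination (2 * Q y) * h1 - polar Q x y * h2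
      exact (mul_eq_zero.mp this).resolve_right h
    · have : b * (4 * Q x * Q y - polar Q x y ^ 2) = 0 := by linear_combination (2 * Q x) * h2 - polar Q x y * h1
      exact (mul_eq_zero.mp this).resolve_right h
  constructor
  · intro z hz hzP
    obtain ⟨a, b, rfl⟩ := mem_span_pair'.mp hz
    obtain ⟨rfl, rfl⟩ := hkey a b (hzP x (Submodule.subset_span (by simp))) (hzP y (Submodule.subset_span (by simp)))
    simp
  · have hli : LinearIndependent F ![x, y] := by
      rw [LinearIndependent.pair_iff]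
      intro a b hab
      refine hkey a b ?_ ?_ <;> rw [hab, polar_zero_left]
    have := finrank_span_eq_card hli
    rw [show Set.range ![x, y] = ({x, y} : Set V) from by simp [Set.pair_comm]] at this
    simpa using this

end

section

variable {F V : Type*} [Field F] [Finite F] [AddCommGroup V] [Module F V] [FiniteDimensional F V]

/-- hyperbolic pairs in nondegenerate subspaces of dimension at least three -/
theorem exists_hyp_in {Q : QuadraticForm F V} {U : Submodule F V} (hU : (frmQ Q).NdOn U) (hd : 3 ≤ finrank F U) :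
    ∃ x ∈ U, ∃ y ∈ U, Q x = 0 ∧ Q y = 0 ∧ polar Q x y = 1 := by
  obtain ⟨x, hx, hx0, hQx⟩ := Cfsg.Agent.LieClassical.OrthFinite.exists_sing_mem (Q := Q) U hd
  obtain ⟨z, hz, hxz⟩ : ∃ z ∈ U, polar Q x z ≠ 0 := by
    by_contra hcon
    push Not at hcon
    exact hx0 (hU x hx hcon)
  obtain ⟨z', hz'U, hxz'⟩ : ∃ z' ∈ U, polar Q x z' = 1 := by
    refine ⟨(polar Q x z)⁻¹ • z, U.smul_mem _ hz, ?_⟩
    rw [polar_smul_right, smul_eq_mul, inv_mul_cancel₀ hxz]
  refine ⟨x, hx, z' - Q z' • x, U.sub_mem hz'U (U.smul_mem _ hx), hQx, ?_, ?_⟩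
  · rw [sub_eq_add_neg, ← neg_smul, Q_add, QuadraticMap.map_smul, polar_smul_right, polar_comm _ z' x, hxz', hQx]
    simp
  · rw [sub_eq_add_neg, ← neg_smul, polar_add_right, polar_smul_right, polar_self_of_sing hQx, hxz']
    simp

/-- nondegenerate subspaces of plus type -/
theorem exists_plus_sub {Q : QuadraticForm F V} (hQ : Nondeg Q) (m : ℕ) (hm : 2 * m + 1 ≤ finrank F V) :
    ∃ D A : Submodule F V, (frmQ Q).NdOn D ∧ finrank F D = 2 * m ∧ A ≤ D ∧ (frmQ Q).TI A ∧ finrank F A = m := by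
  induction m with
  | zero => exact ⟨⊥, ⊥, ndOn_bot, by simp, le_refl _, ti_bot Q, by simp⟩
  | succ m ih =>
    obtain ⟨D, A, hD, hfD, hAD, hA, hfA⟩ := ih (by omega)
    have hdec := dec_prp hD
    have hnU : (frmQ Q).NdOn (prp (frmQ Q) D) := Dec.ndOn_right hdec hQ
    have hfU := Dec.finrank_add hdec
    obtain ⟨x, hx, y, hy, hQx, hQy, hxy⟩ := exists_hyp_in hnU (by omega)
    have hdisc : 4 * Q x * Q y - polar Q x y ^ 2 ≠ 0 := by
      rw [hQx, hxy]
      simp
    obtain ⟨hP, hfP⟩ := plane_nd hdisc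
    have hPD : Submodule.span F ({x, y} : Set V) ≤ prp (frmQ Q) D := by
      rw [Submodule.span_le]
      rintro z (rfl | rfl)
      · exact hx
      · exact hy
    have hxP : Submodule.span F ({x} : Set V) ≤ Submodule.span F ({x, y} : Set V) :=
      Submodule.span_mono (by simp)
    have hx0 : x ≠ 0 := by
      rintro rfl
      rw [polar_zero_left] at hxy
      exact zero_ne_one hxy
    refine ⟨D ⊔ Submodule.span F {x, y}, A ⊔ Submodule.span F {x}, ndOn_sup hD hP hPD, ?_, sup_le_sup hAD hxP,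
      ti_sup hA (ti_span_singleton hQx) ?_, ?_⟩
    · rw [finrank_sup_of_le_prp hD hPD, hfD, hfP]
      ring
    · intro a ha z hz
      exact mem_prp'.mp (hPD (hxP hz)) a (hAD ha)
    · have h1 := Submodule.finrank_sup_add_finrank_inf_eq A (Submodule.span F {x})
      have h2 : A ⊓ Submodule.span F {x} = ⊥ := by
        rw [eq_bot_iff]
        intro z hz
        exact (Submodule.mem_bot F).mpr (hD z (hAD hz.1) fun w hw => (hPD (hxP hz.2)) w hw)
      rw [h2, finrank_bot, finrank_span_singleton hx0, hfA] at h1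
      exact h1

theorem gs_of_plus {Q : QuadraticForm F V} (hQ : Nondeg Q) {n : ℕ} (hn : finrank F V = 2 * n) (h : PlusT Q) :
    gs Q 1 = (Nat.card F : ℂ) ^ n := by
  obtain ⟨A, hA, hd⟩ := h
  rw [gs_plus Q hQ A hA hd one_ne_zero]
  congr 1
  omega

theorem gs_of_not_plus {Q : QuadraticForm F V} (hQ : Nondeg Q) {n : ℕ} (hn : finrank F V = 2 * n) (h : ¬ PlusT Q) :
    gs Q 1 = -(Nat.card F : ℂ) ^ n := by
  have hn1 : 1 ≤ n := by
    by_contra hcon
    apply h
    exact ⟨⊥, ti_bot Q, by rw [finrank_bot]; omega⟩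
  obtain ⟨D, A, hD, hfD, hAD, hA, hfA⟩ := exists_plus_sub hQ (n - 1) (by omega)
  have hdec := dec_prp hD
  have hfU := Dec.finrank_add hdec
  have hnU : (frmQ Q).NdOn (prp (frmQ Q) D) := Dec.ndOn_right hdec hQ
  rw [gs_dec Q hdec, gs_of_plus (nd_comp_iff.mpr hD) hfD (plusT_comp_iff.mpr ⟨A, hAD, hA, by omega⟩),
    gs_aniso _ (nd_comp_iff.mpr hnU) (by omega) ?_ one_ne_zero]
  · rw [mul_neg, ← pow_succ]
    congr 2
    omega
  · intro v hv
    by_contra hv0
    apply h
    have hv0' : (v : V) ≠ 0 := fun h0 => hv0 (Subtype.ext h0)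
    have hxP : Submodule.span F ({(v : V)} : Set V) ≤ prp (frmQ Q) D := by
      rw [Submodule.span_le]
      rintro z rfl
      exact v.2
    refine ⟨A ⊔ Submodule.span F {(v : V)}, ti_sup hA (ti_span_singleton hv) ?_, ?_⟩
    · intro a ha z hz
      exact mem_prp'.mp (hxP hz) a (hAD ha)
    · have h1 := Submodule.finrank_sup_add_finrank_inf_eq A (Submodule.span F {(v : V)})
      have h2 : A ⊓ Submodule.span F {(v : V)} = ⊥ := by
        rw [eq_bot_iff]
        intro z hz
        exact (Submodule.mem_bot F).mpr (hD z (hAD hz.1) fun w hw => (hxP hz.2) w hw)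
      rw [h2, finrank_bot, finrank_span_singleton hv0', hfA] at h1
      omega

theorem q_pow_ne (n : ℕ) : ((Nat.card F : ℂ)) ^ n ≠ 0 := by
  have : 0 < Nat.card F := Nat.card_pos
  exact pow_ne_zero _ (by exact_mod_cast this.ne')

theorem plus_iff_gs {Q : QuadraticForm F V} (hQ : Nondeg Q) {n : ℕ} (hn : finrank F V = 2 * n) :
    PlusT Q ↔ gs Q 1 = (Nat.card F : ℂ) ^ n := by
  refine ⟨gs_of_plus hQ hn, fun h => ?_⟩
  by_contra hcon
  rw [gs_of_not_plus hQ hn hcon] at h
  have h1 := q_pow_ne (F := F) n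
  have : (2 : ℂ) * (Nat.card F : ℂ) ^ n = 0 := by linear_combination -h
  rcases mul_eq_zero.mp this with h2 | h2
  · norm_num at h2
  · exact h1 h2

/-- types of orthogonal sums -/
theorem type_mul {Q : QuadraticForm F V} (hQ : Nondeg Q) {D U : Submodule F V} (h : (frmQ Q).Dec D U) {m n : ℕ}
    (hm : finrank F D = 2 * m) (hn : finrank F U = 2 * n) :
    PlusT Q ↔ (PlusT (Q.comp D.subtype) ↔ PlusT (Q.comp U.subtype)) := by
  have hD := nd_comp_iff.mpr (Dec.ndOn_left h hQ)
  have hU := nd_comp_iff.mpr (Dec.ndOn_right h hQ)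
  have hV : finrank F V = 2 * (m + n) := by
    have := Dec.finrank_add h
    omega
  have hg := gs_dec Q h 1
  have hne := q_pow_ne (F := F) (m + n)
  rw [plus_iff_gs hQ hV, hg]
  by_cases h1 : PlusT (Q.comp D.subtype) <;> by_cases h2 : PlusT (Q.comp U.subtype)
  · simp only [h1, h2]
    rw [gs_of_plus hD hm h1, gs_of_plus hU hn h2, pow_add]
    simp
  · simp only [h1, h2]
    rw [gs_of_plus hD hm h1, gs_of_not_plus hU hn h2, mul_neg, ← pow_add]
    simp only [iff_false, not_true_eq_false, iff_false]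
    intro h3
    apply hne
    have : (2 : ℂ) * (Nat.card F : ℂ) ^ (m + n) = 0 := by linear_combination -h3
    simpa using this
  · simp only [h1, h2]
    rw [gs_of_not_plus hD hm h1, gs_of_plus hU hn h2, neg_mul, ← pow_add]
    simp only [false_iff, not_true_eq_false, iff_false]
    intro h3
    apply hne
    have : (2 : ℂ) * (Nat.card F : ℂ) ^ (m + n) = 0 := by linear_combination -h3
    simpa using this
  · simp only [h1, h2]
    rw [gs_of_not_plus hD hm h1, gs_of_not_plus hU hn h2, neg_mul_neg, ← pow_add]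
    simp

/-- an irreducible polynomial `t² + t + d` -/
theorem exists_irr_quad : ∃ d : F, ∀ t : F, t ^ 2 + t + d ≠ 0 := by
  by_contra hcon
  push Not at hcon
  let f : F → F := fun t => -(t ^ 2 + t)
  have hsurj : Function.Surjective f := by
    intro d
    obtain ⟨t, ht⟩ := hcon d
    exact ⟨t, by show -(t ^ 2 + t) = d; linear_combination -ht⟩
  have hinj : Function.Injective f := Finite.injective_iff_surjective.mpr hsurj
  have h1 : f 0 = f (-1) := by
    show -((0 : F) ^ 2 + 0) = -((-1) ^ 2 + -1)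
    ring
  have h2 := hinj h1
  have h3 : (1 : F) = 0 := by linear_combination h2
  exact one_ne_zero h3

/-- nondegenerate subspaces of minus type -/
theorem exists_minus_sub {Q : QuadraticForm F V} (hQ : Nondeg Q) (m : ℕ) (hm1 : 1 ≤ m) (hm : 2 * m + 1 ≤ finrank F V) :
    ∃ D : Submodule F V, (frmQ Q).NdOn D ∧ finrank F D = 2 * m ∧ ¬ PlusT (Q.comp D.subtype) := by
  obtain ⟨D, A, hD, hfD, hAD, hA, hfA⟩ := exists_plus_sub hQ (m - 1) (by omega)
  have hdec := dec_prp hD
  have hnU : (frmQ Q).NdOn (prp (frmQ Q) D) := Dec.ndOn_right hdec hQ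
  have hfU := Dec.finrank_add hdec
  obtain ⟨x, hx, y, hy, hQx, hQy, hxy⟩ := exists_hyp_in hnU (by omega)
  have hdisc : 4 * Q x * Q y - polar Q x y ^ 2 ≠ 0 := by
    rw [hQx, hxy]
    simp
  obtain ⟨hP, hfP⟩ := plane_nd hdisc
  have hPD : Submodule.span F ({x, y} : Set V) ≤ prp (frmQ Q) D := by
    rw [Submodule.span_le]
    rintro z (rfl | rfl)
    · exact hx
    · exact hy
  have hD2 := ndOn_sup hD hP hPD
  have hfD2 := finrank_sup_of_le_prp hD hPD
  -- a nonsingular vector orthogonal to everything so far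
  obtain ⟨w, hw, hQw⟩ : ∃ w ∈ prp (frmQ Q) (D ⊔ Submodule.span F {x, y}), Q w ≠ 0 := by
    obtain ⟨w, hw, hw0⟩ := prp_ne_bot hD2 (by omega)
    have hnd2 : (frmQ Q).NdOn (prp (frmQ Q) (D ⊔ Submodule.span F {x, y})) := Dec.ndOn_right (dec_prp hD2) hQ
    by_contra hcon
    push Not at hcon
    refine hw0 (hnd2 w hw fun z hz => ?_)
    have h1 := hcon (w + z) (Submodule.add_mem _ hw hz)
    rw [Q_add, hcon w hw, hcon z hz, zero_add, zero_add] at h1
    exact h1
  have hwD : w ∈ prp (frmQ Q) D := fun z hz => hw z (Submodule.mem_sup_left hz)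
  have hwx : polar Q w x = 0 := hw x (Submodule.mem_sup_right (Submodule.subset_span (by simp)))
  have hwy : polar Q w y = 0 := hw y (Submodule.mem_sup_right (Submodule.subset_span (by simp)))
  obtain ⟨d, hd⟩ := exists_irr_quad (F := F)
  set c := Q w with hc
  set e : V := x + (c * d) • y with he
  set f : V := c • y + w with hf
  have hQe : Q e = c * d := by
    rw [he, Q_add, QuadraticMap.map_smul, polar_smul_right, hQx, hQy, hxy]
    simp
  have hQf : Q f = c := by
    rw [hf, Q_add, QuadraticMap.map_smul, polar_smul_left, polar_comm, hwy, hQy]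
    simp [hc]
  have hef : polar Q e f = c := by
    rw [he, hf, polar_add_left, polar_add_right, polar_add_right, polar_smul_left, polar_smul_left, polar_smul_right,
      polar_smul_right, hxy, polar_comm _ x w, hwx, polar_comm _ y w, hwy, polar_self_of_sing hQy]
    simp
  have hQlin : ∀ a b : F, Q (a • e + b • f) = c * (d * a ^ 2 + a * b + b ^ 2) := by
    intro a b
    rw [Q_add, QuadraticMap.map_smul, QuadraticMap.map_smul, polar_smul_left, polar_smul_right, hQe, hQf, hef]
    simp only [smul_eq_mul]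
    ring
  have hani : ∀ a b : F, Q (a • e + b • f) = 0 → a = 0 ∧ b = 0 := by
    intro a b hab
    rw [hQlin] at hab
    have h1 := (mul_eq_zero.mp hab).resolve_left hQw
    have ha : a = 0 := by
      by_contra ha
      apply hd (b / a)
      field_simp
      linear_combination h1
    subst ha
    refine ⟨rfl, ?_⟩
    have : b ^ 2 = 0 := by linear_combination h1
    exact pow_eq_zero_iff (two_ne_zero) |>.mp this
  have hdisc2 : 4 * Q e * Q f - polar Q e f ^ 2 ≠ 0 := by
    rw [hQe, hQf, hef]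
    intro h0
    have h1 : c ^ 2 * (4 * d - 1) = 0 := by linear_combination h0
    have h2 : 4 * d - 1 = 0 := (mul_eq_zero.mp h1).resolve_left (pow_ne_zero _ hQw)
    by_cases h22 : (2 : F) = 0
    · have : (1 : F) = 0 := by linear_combination (2 * d) * h22 - h2
      exact one_ne_zero this
    · apply hd (-(1 / 2))
      field_simp
      linear_combination h2
  obtain ⟨hP2, hfP2⟩ := plane_nd hdisc2
  have heP : e ∈ prp (frmQ Q) D := Submodule.add_mem _ hx (Submodule.smul_mem _ _ hy)
  have hfP' : f ∈ prp (frmQ Q) D := Submodule.add_mem _ (Submodule.smul_mem _ _ hy) hwD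
  have hPD2 : Submodule.span F ({e, f} : Set V) ≤ prp (frmQ Q) D := by
    rw [Submodule.span_le]
    rintro z (rfl | rfl)
    · exact heP
    · exact hfP'
  have hfD' := finrank_sup_of_le_prp hD hPD2
  have hfin : finrank F ↥(D ⊔ Submodule.span F {e, f}) = 2 * m := by
    rw [hfD', hfD, hfP2]
    omega
  refine ⟨D ⊔ Submodule.span F {e, f}, ndOn_sup hD hP2 hPD2, hfin, ?_⟩
  intro hplus
  obtain ⟨B, hB, hBti, hBf⟩ := plusT_comp_iff.mp hplus
  -- Gauss sum of `D ⊥ span {e, f}`
  set E := D ⊔ Submodule.span F ({e, f} : Set V) with hE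
  have hEn : Nondeg (Q.comp E.subtype) := nd_comp_iff.mpr (ndOn_sup hD hP2 hPD2)
  have hg := gs_of_plus hEn hfin hplus
  let D' : Submodule F E := D.comap E.subtype
  let P' : Submodule F E := (Submodule.span F ({e, f} : Set V)).comap E.subtype
  have hDE : D ≤ E := le_sup_left
  have hPE : Submodule.span F ({e, f} : Set V) ≤ E := le_sup_right
  have hdec' : (frmQ (Q.comp E.subtype)).Dec D' P' := by
    refine ⟨⟨?_, ?_⟩, fun a ha b hb => mem_prp'.mp (hPD2 hb) a ha⟩
    · rw [Submodule.disjoint_def]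
      intro z hz hz'
      exact Subtype.ext (hD z hz fun u hu => (hPD2 hz') u hu)
    · rw [codisjoint_iff, eq_top_iff]
      rintro ⟨z, hz⟩ _
      obtain ⟨a, ha, b, hb, rfl⟩ := Submodule.mem_sup.mp hz
      exact Submodule.mem_sup.mpr ⟨⟨a, hDE ha⟩, ha, ⟨b, hPE hb⟩, hb, rfl⟩
  have hfinD' : finrank F D' = 2 * (m - 1) := by
    have h1 := Submodule.finrank_map_subtype_eq E D'
    rw [Submodule.map_comap_subtype, inf_eq_right.mpr hDE] at h1
    omega
  have hfinP' : finrank F P' = 2 * 1 := by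
    have h1 := Submodule.finrank_map_subtype_eq E P'
    rw [Submodule.map_comap_subtype, inf_eq_right.mpr hPE] at h1
    omega
  have htype := type_mul hEn hdec' hfinD' hfinP'
  have h1 : PlusT ((Q.comp E.subtype).comp D'.subtype) := by
    rw [plusT_comp_iff]
    refine ⟨A.comap E.subtype, Submodule.comap_mono hAD, ⟨fun a ha b hb => hA.1 a ha b hb, fun a ha => hA.2 a ha⟩, ?_⟩
    have h1 := Submodule.finrank_map_subtype_eq E (A.comap E.subtype)
    rw [Submodule.map_comap_subtype, inf_eq_right.mpr (hAD.trans hDE)] at h1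
    omega
  have h2 : PlusT ((Q.comp E.subtype).comp P'.subtype) := (htype.mp hplus).mp h1
  rw [plusT_comp_iff] at h2
  obtain ⟨C, hC, hCti, hCf⟩ := h2
  have hC1 : 0 < finrank F C := by omega
  obtain ⟨⟨z, hz⟩, hz0⟩ := @exists_ne C (finrank_pos_iff.mp hC1) 0
  have hzs := hCti.2 z hz
  obtain ⟨a, b, hab⟩ := mem_span_pair'.mp (show (z : V) ∈ Submodule.span F ({e, f} : Set V) from hC hz)
  have hzs' : Q (z : V) = 0 := hzs
  rw [hab] at hzs'
  obtain ⟨rfl, rfl⟩ := hani a b hzs'
  apply hz0
  apply Subtype.ext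
  apply Subtype.ext
  show (z : V) = 0
  rw [hab]
  simp

end

end Cfsg.Agent.H826.Bs
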